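import Cfsg.Agent.CosetEnum.SuzH.Action
import Cfsg.Agent.CosetEnum.Simple
import Cfsg.Agent.PresentedOut.Criterion
import Cfsg.Agent.PresentedOut.Suz.Data

/-! Kernel checks for the triple in `Cfsg.Spor.Suz`. -/

set_option autoImplicit false
set_option maxRecDepth 100000
set_option exponentiation.threshold 200000
set_option Elab.async false

namespace CfsgLib.PresentedOut.Suz

open CfsgLib.CosetEnum

/-- The invariant relation on pairs of cosets. -/
noncomputable def R (i j : ℕ) : ℕ := rel SuzH.tb SuzH.parN SuzH.parX classes 19 i j

theorem down_ok : allR (fun i => bif Nat.blt i 1782 then down SuzH.parN 19 i else true) 11 0 = true := by decide +kernel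

theorem cls_ok : allR (clsEntry 1782 SuzH.tb SuzH.sW classes) 11 0 = true := by decide +kernel

theorem table0 : allR (wordEntry 1782 SuzH.tb (W.getD 0 []) t0) 11 0 = true := by decide +kernel

theorem table1 : allR (wordEntry 1782 SuzH.tb (W.getD 1 []) t1) 11 0 = true := by decide +kernel

theorem table2 : allR (wordEntry 1782 SuzH.tb (W.getD 2 []) t2) 11 0 = true := by decide +kernel

theorem table3 : allR (wordEntry 1782 SuzH.tb (W.getD 3 []) t3) 11 0 = true := by decide +kernel

theorem table4 : allR (wordEntry 1782 SuzH.tb (W.getD 4 []) t4) 11 0 = true := by decide +kernel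

theorem table5 : allR (wordEntry 1782 SuzH.tb (W.getD 5 []) t5) 11 0 = true := by decide +kernel

theorem profA0 : allR (profEntry R 1782 (tb 0) 11 0 LA0) 11 0 = true := by decide +kernel

theorem profA1 : allR (profEntry R 1782 (tb 0) 11 1 LA1) 11 0 = true := by decide +kernel

theorem profA2 : allR (profEntry R 1782 (tb 0) 11 2 LA2) 11 0 = true := by decide +kernel

theorem profA3 : allR (profEntry R 1782 (tb 0) 11 380 LA3) 11 0 = true := by decide +kernel

/-- A list containing the centraliser of `a`: its powers and their translates by one element. -/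
def KA : List (List ℕ) :=
  ((List.range 11).map fun i => List.replicate i 0) ++ ((List.range 11).map fun i => 5 :: List.replicate i 0)

theorem searchA : quadSearch R (tb 0) 11 380 0 1 2 LA3 LA0 LA1 LA2 tb KA = true := by decide +kernel

theorem profB0 : allR (profEntry R 1782 (tb 1) 10 0 LB0) 11 0 = true := by decide +kernel

theorem profB1 : allR (profEntry R 1782 (tb 1) 10 1 LB1) 11 0 = true := by decide +kernel

theorem profB2 : allR (profEntry R 1782 (tb 1) 10 2 LB2) 11 0 = true := by decide +kernel

theorem profB3 : allR (profEntry R 1782 (tb 1) 10 380 LB3) 11 0 = true := by decide +kernel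

theorem searchB : quadSearch R (tb 1) 10 1 0 380 2 LB1 LB0 LB3 LB2 tb KW = true := by decide +kernel

end CfsgLib.PresentedOut.Suz
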