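import Cfsg.Agent.CosetEnum.SuzSimple.Final
import Cfsg.Agent.PresentedOut.Suz.Checks

/-! `Cfsg.Spor.Suz` has exactly two classes of automorphisms modulo inner ones. -/

set_option autoImplicit false
set_option maxRecDepth 100000
set_option exponentiation.threshold 200000
set_option Elab.async false

namespace CfsgLib.PresentedOut.Suz

open CfsgLib.CosetEnum

theorem gensW : ∀ v ∈ W, ∀ a ∈ v, a < 7 := by decide +kernel

theorem kwLt : ∀ w ∈ KW, ∀ a ∈ w, a < 6 := by decide +kernel

theorem moveOK : ∀ k < 11, k = 0 ∨ ∃ j < 11, k * 2 ^ j % 11 ∈ [1] := by decide +kernel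

theorem gwsLt : ∀ i < 7, ∀ a ∈ gws.getD i [], a < 3 := by decide +kernel

theorem gwsOK : ∀ i < 7, sameTwo SuzH.tb tb [0, 1, 2, 380] [i] (gws.getD i []) = true := by decide +kernel

theorem relsLt : ∀ v ∈ rels, ∀ a ∈ v, a < 3 := by decide +kernel

theorem relsOK : ∀ v ∈ rels, sameOn tb [0, 1, 2, 380] v [] = true := by decide +kernel

theorem w0Mem : [1, 1, 1, 1, 1] ∈ KW := by decide +kernel

theorem imageOK : ∀ k ∈ [1], ∀ w ∈ KW, okImage tb [0, 1, 2, 380] rels 1 [1, 1, 1, 1, 1] k w = true := by
  decide +kernel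

theorem piWords : ∀ v ∈ CfsgLib.CosetEnum.Suz.words,
    sameOn tb [0, 1, 2, 380] (subst 1 [1, 1, 1, 1, 1] (v.flatMap fun i => gws.getD i [])) [] = true := by
  decide +kernel

theorem piTriple : ∀ i < 3, sameOn tb [0, 1, 2, 380]
    (subst 1 [1, 1, 1, 1, 1] ((W.getD i []).flatMap fun i => gws.getD i [])) (img3 1 [1, 1, 1, 1, 1] i) = true := by
  decide +kernel

theorem centOK : ∀ i < 11, sameOn tb [0, 1, 2, 380] ((5 :: List.replicate i 0) ++ [0])
    (0 :: 5 :: List.replicate i 0) = false := by decide +kernel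

theorem sepOK : ∀ w ∈ KW, sepWord tb [0, 1, 2, 380] 1 [1, 1, 1, 1, 1] w = true := by decide +kernel

theorem card_out_Suz : Nat.card (Cfsg.Out Cfsg.Spor.Suz) = 2 := by
  haveI hfin : Finite CfsgLib.CosetEnum.Suz.setup.Grp := CfsgLib.CosetEnum.Suz.finite_grp
  haveI : IsSimpleGroup CfsgLib.CosetEnum.Suz.setup.Grp := CfsgLib.CosetEnum.Suz.isSimpleGroup_Suz
  obtain ⟨φ, e, hφ, he, he0, hinj, hcard⟩ := CfsgLib.CosetEnum.Suz.order_and_action
  have hfix : Nat.card (fixK φ [380, 2, 1, 0]) ≤ 1 := by
    have h1 := card_range_ge φ _ (SuzH.level0 φ hφ _ (SuzH.level1 φ hφ _ (SuzH.level2 φ hφ _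
      (SuzH.level3 φ hφ _ (le_refl (Nat.card (fixK φ [380, 2, 1, 0])))))))
    have h2 : Nat.card φ.range ≤ 448345497600 :=
      hcard ▸ Nat.card_le_card_of_surjective _ φ.rangeRestrict_surjective
    omega
  have base : ∀ l : List ℕ, (∀ i ∈ [380, 2, 1, 0], i ∈ l) → IsBase φ l := fun l hl g h hgh =>
    isBase_of_card hinj hfix g h fun i hi => hgh i (hl _ hi)
  have hS : HasTables φ CfsgLib.CosetEnum.Suz.setup.g CfsgLib.CosetEnum.Suz.setup.k SuzH.tb := by
    intro k hk i
    have h := hφ [k] (by simpa using hk) i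
    rw [show prodw CfsgLib.CosetEnum.Suz.setup.g [k] = CfsgLib.CosetEnum.Suz.setup.g k by
      simp [prodw]] at h
    exact h
  let x : ℕ → CfsgLib.CosetEnum.Suz.setup.Grp := fun i => prodw CfsgLib.CosetEnum.Suz.setup.g (W.getD i [])
  have htab : ∀ (w : List ℕ) (A : ℕ), (∀ a ∈ w, a < 7) →
      allR (wordEntry 1782 SuzH.tb w A) 11 0 = true →
      ∀ i : Fin SuzH.enum.n, (img φ (prodw CfsgLib.CosetEnum.Suz.setup.g w) i).val = ext A i := by
    intro w A hw h i
    have hi : i.val < 1782 := i.isLt
    have h1 := allR_spec 11 0 h i (Nat.zero_le _) (by norm_num; omega)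
    unfold wordEntry at h1
    rw [show Nat.blt i.val 1782 = true by simpa using hi, cond_true] at h1
    exact (hφ w hw i).trans (Nat.eq_of_beq_eq_true h1)
  have hx : HasTables φ x 6 tb := by
    intro k hk i
    interval_cases k
    · exact htab _ t0 (by decide +kernel) table0 i
    · exact htab _ t1 (by decide +kernel) table1 i
    · exact htab _ t2 (by decide +kernel) table2 i
    · exact htab _ t3 (by decide +kernel) table3 i
    · exact htab _ t4 (by decide +kernel) table4 i
    · exact htab _ t5 (by decide +kernel) table5 i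
  have hR : IsInvariant φ R :=
    isInvariant_rel (E := SuzH.enum) (d := 11) (show 1782 ≤ 2 ^ 11 by norm_num) (show 0 < 1782 by norm_num)
      hφ e he (by rw [he0]; rfl) SuzH.treeValid classes 19 down_ok cls_ok
  have hB : IsBase φ [0, 1, 2, 380] := base _ (by decide)
  have hbs : ∀ i ∈ [0, 1, 2, 380], i < 1782 := by decide
  have eqw : ∀ v w : List ℕ, (∀ a ∈ v, a < 6) → (∀ a ∈ w, a < 6) →
      sameOn tb [0, 1, 2, 380] v w = true → prodw x v = prodw x w :=
    fun v w hv hw h => eq_of_sameOn hB hx hv hw h
  have hcA : ∀ g, Commute g (x 0) → ∃ i < 11, g = x 0 ^ i := by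
    intro g hg
    obtain ⟨w, hw, rfl⟩ := exists_eq_of_commute (d := 11) (show 1782 ≤ 2 ^ 11 by norm_num) hR
      (base [380, 0, 1, 2] (by decide)) (show 380 < 1782 by norm_num) (show 0 < 1782 by norm_num)
      (show 1 < 1782 by norm_num) (show 2 < 1782 by norm_num) hx (c := 0) (by norm_num)
      (KW := KA) (by decide +kernel) profA3 profA0 profA1 profA2 searchA hg
    rcases List.mem_append.mp hw with hw | hw <;> obtain ⟨i, hi, rfl⟩ := List.mem_map.mp hw <;>
      rw [List.mem_range] at hi
    · exact ⟨i, hi, prodw_const x i 0⟩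
    · exfalso
      have hlt : ∀ a ∈ 5 :: List.replicate i 0, a < 6 := by
        intro a ha
        rcases List.mem_cons.mp ha with rfl | ha
        · norm_num
        · rw [List.eq_of_mem_replicate ha]; norm_num
      have h := sameOn_of_eq hbs hx (v := (5 :: List.replicate i 0) ++ [0])
        (w := 0 :: 5 :: List.replicate i 0)
        (fun a ha => by
          rcases List.mem_append.mp ha with ha | ha
          · exact hlt a ha
          · rw [List.mem_singleton.mp ha]; norm_num)
        (fun a ha => by
          rcases List.mem_cons.mp ha with rfl | ha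
          · norm_num
          · exact hlt a ha)
        (by rw [prodw_append, prodw_cons x 0 (5 :: List.replicate i 0)]; simpa [prodw] using hg.eq)
      rw [centOK i hi] at h
      exact Bool.noConfusion h
  have hcB : ∀ g, Commute g (x 1) → ∃ w ∈ KW, g = prodw x w := fun g hg =>
    exists_eq_of_commute (d := 11) (show 1782 ≤ 2 ^ 11 by norm_num) hR
      (base [1, 0, 380, 2] (by decide)) (show 1 < 1782 by norm_num) (show 0 < 1782 by norm_num)
      (show 380 < 1782 by norm_num) (show 2 < 1782 by norm_num) hx (c := 1) (by norm_num)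
      (KW := KW) (by decide +kernel) profB1 profB0 profB3 profB2 searchB hg
  let Rg : Rigid x KW :=
    { p := 11
      r := 2
      r' := 6
      s := 3
      hp := by norm_num
      hr := rfl
      pow_a := by
        have := eqw (List.replicate 11 0) [] (by decide) (by decide) (by decide +kernel)
        rwa [prodw_const, prodw_nil] at this
      a_ne := fun h => by
        have h' := sameOn_of_eq hbs hx (v := [0]) (w := []) (by decide) (by decide) (by simpa [prodw] using h)
        exact absurd h' (by decide +kernel)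
      a_b := by
        have := eqw [0, 1] (1 :: List.replicate 2 0) (by decide) (by decide) (by decide +kernel)
        rwa [prodw_cons, prodw_cons, prodw_nil, mul_one, prodw_cons, prodw_const] at this
      b_c := by
        have := eqw [1, 2] (2 :: List.replicate 3 1) (by decide) (by decide) (by decide +kernel)
        rwa [prodw_cons, prodw_cons, prodw_nil, mul_one, prodw_cons, prodw_const] at this
      sylow := by rw [hcard]; decide +kernel
      centA := hcA
      centB := hcB
      shift := by decide +kernel }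
  show Nat.card (Cfsg.Out CfsgLib.CosetEnum.Suz.setup.Grp) = 2
  exact card_out_eq_two (S := CfsgLib.CosetEnum.Suz.setup) (φ := φ) (tbS := SuzH.tb) (tb := tb)
    (bs := [0, 1, 2, 380]) hB hbs hS (W := W) gensW (m := 6) (by norm_num) (x := x)
    (fun _ => rfl) hx (KW := KW) kwLt Rg [1] moveOK
    (fun i => gws.getD i []) gwsLt gwsOK rels relsLt relsOK 1 [1, 1, 1, 1, 1] w0Mem ⟨by norm_num [Rg], by norm_num⟩
    imageOK piWords piTriple sepOK

end CfsgLib.PresentedOut.Suz
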